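import Cfsg.Agent.Lib.Thompson.FFSL2.System
import Cfsg.Agent.LocalEven61.SL2Unipotent

/-!
A group acting faithfully on the natural module of a subgroup `L ≅ SL₂(q)`, with a Sylow subgroup
normalising `L`: the action of normalisers is semilinear, and the conjugates of a Sylow subgroup of
`L` form a system of quadratic offenders once `Key` holds.
-/

set_option autoImplicit false
set_option linter.unusedSectionVars false

open scoped MatrixGroups

namespace Cfsg.Agent.FG78.SL2Nat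

open Cfsg.Agent.PLocalB (upper lower)
open Cfsg.Agent.LocalEven61 (upperGroup sl2_smul_apply)
open Cfsg.Agent.FFSL2

/-- The data: `L = ι.range` is `SL₂(F)` on its natural module, `T` a Sylow subgroup normalising it. -/
structure Ctx (F : Type*) [Field F] (p : ℕ) (H : Type*) [Group H]
    [DistribMulAction H (Fin 2 → F)] where
  faith : ∀ h : H, (∀ w : Fin 2 → F, h • w = w) → h = 1
  emb : SL(2, F) →* H
  emb_smul : ∀ (A : SL(2, F)) (w : Fin 2 → F),
    emb A • w = (A : Matrix (Fin 2) (Fin 2) F).mulVec w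
  T : Sylow p H
  T_le : (T : Subgroup H) ≤ Subgroup.normalizer (emb.range : Set H)
  U_le : (upperGroup F).map emb ≤ (T : Subgroup H)

/-- A map commuting with `SL₂` is a scalar. -/
theorem eq_smul_of_commute {F : Type*} [Field F] (f : (Fin 2 → F) →+ (Fin 2 → F))
    (hf : ∀ (A : SL(2, F)) w, f ((A : Matrix (Fin 2) (Fin 2) F).mulVec w) =
      (A : Matrix (Fin 2) (Fin 2) F).mulVec (f w)) (w : Fin 2 → F) :
    f w = (f ![1, 0] 0) • w := by
  have hu : ∀ (a : F) (w : Fin 2 → F),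
      ((upper a : SL(2, F)) : Matrix (Fin 2) (Fin 2) F).mulVec w = ![w 0 + a * w 1, w 1] := by
    intro a w; funext i; rw [sl2_smul_apply]; fin_cases i <;> simp
  have hl : ∀ (a : F) (w : Fin 2 → F),
      ((lower a : SL(2, F)) : Matrix (Fin 2) (Fin 2) F).mulVec w = ![w 0, a * w 0 + w 1] := by
    intro a w; funext i; rw [sl2_smul_apply]; fin_cases i <;> simp
  have hx : ∀ x : F, f ![x, 0] 1 = 0 := fun x => by
    have h := hf (upper 1) ![x, 0]
    rw [hu, hu] at h
    simpa using (congrFun h 0).symm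
  have hy : ∀ y : F, f ![0, y] 0 = 0 := fun y => by
    have h := hf (lower 1) ![0, y]
    rw [hl, hl] at h
    simpa using (congrFun h 1).symm
  have key : ∀ a y : F, f ![a * y, 0] 0 = a * f ![0, y] 1 := by
    intro a y
    have h := hf (upper a) ![0, y]
    rw [hu, hu] at h
    have e : (![a * y, y] : Fin 2 → F) = ![a * y, 0] + ![0, y] := by
      funext i; fin_cases i <;> simp
    simp only [Matrix.cons_val_zero, Matrix.cons_val_one, zero_add] at h
    rw [e, map_add] at h
    simpa [hy] using congrFun h 0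
  have hh : ∀ y : F, f ![0, y] 1 = f ![y, 0] 0 := fun y => by
    simpa using (key 1 y).symm
  have hg : ∀ x : F, f ![x, 0] 0 = x * f ![1, 0] 0 := fun x => by
    have h := key x 1
    rwa [mul_one, hh] at h
  have e : w = ![w 0, 0] + ![0, w 1] := by
    funext i; fin_cases i <;> simp
  conv_lhs => rw [e, map_add]
  funext i
  fin_cases i
  · simp [hy, hg (w 0), mul_comm]
  · simp [hx, hh, hg (w 1), mul_comm]

variable {F : Type*} [Field F] {p : ℕ} {H : Type*} [Group H] [DistribMulAction H (Fin 2 → F)]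

namespace Ctx

variable (c : Ctx F p H)

/-- The natural subgroup. -/
abbrev L : Subgroup H := c.emb.range

/-- The Sylow subgroup of `L`. -/
abbrev U : Subgroup H := (upperGroup F).map c.emb

/-- The unipotent elements. -/
abbrev u (a : F) : H := c.emb (upper a)

/-- The centraliser of `U` in the module. -/
abbrev Z : AddSubgroup (Fin 2 → F) := fix c.U

theorem u_mem (a : F) : c.u a ∈ c.U := ⟨upper a, ⟨Multiplicative.ofAdd a, rfl⟩, rfl⟩

theorem exists_u {x : H} (hx : x ∈ c.U) : ∃ a, c.u a = x := by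
  obtain ⟨_, ⟨a, rfl⟩, rfl⟩ := hx
  exact ⟨a.toAdd, rfl⟩

theorem u_add (a b : F) : c.u a * c.u b = c.u (a + b) := by
  rw [u, u, ← map_mul, PLocalB.upper_mul]

theorem u_zero : c.u 0 = 1 := by rw [u, PLocalB.upper_zero, map_one]

theorem u_smul (a : F) (w : Fin 2 → F) : c.u a • w = ![w 0 + a * w 1, w 1] := by
  rw [u, c.emb_smul]; funext i; rw [sl2_smul_apply]; fin_cases i <;> simp

theorem mem_Z {w : Fin 2 → F} : w ∈ c.Z ↔ w 1 = 0 := by
  constructor
  · intro h
    have := h _ (c.u_mem 1)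
    rw [u_smul] at this
    simpa using congrFun this 0
  · intro h x hx
    obtain ⟨a, rfl⟩ := c.exists_u hx
    rw [u_smul, h, mul_zero, add_zero]
    funext i; fin_cases i <;> simp [h]

theorem e0_mem (x : F) : ![x, 0] ∈ c.Z := c.mem_Z.2 (by simp)

theorem eq_of_mem_Z {w : Fin 2 → F} (h : w ∈ c.Z) : w = ![w 0, 0] := by
  funext i; fin_cases i <;> simp [c.mem_Z.1 h]

theorem quad_U {x : H} (hx : x ∈ c.U) (w : Fin 2 → F) : x • w - w ∈ c.Z := by
  obtain ⟨a, rfl⟩ := c.exists_u hx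
  rw [c.mem_Z, u_smul]
  simp

theorem mem_Z_of_smul_eq {x : H} (hx : x ∈ c.U) (hx1 : x ≠ 1) {w : Fin 2 → F} (h : x • w = w) :
    w ∈ c.Z := by
  obtain ⟨a, rfl⟩ := c.exists_u hx
  rw [c.mem_Z]
  have h0 : a * w 1 = 0 := by
    rw [u_smul] at h
    simpa using congrFun h 0
  exact (mul_eq_zero.1 h0).resolve_left fun ha => hx1 (by rw [ha, u_zero])

theorem emb_injective : Function.Injective c.emb := by
  rw [injective_iff_map_eq_one]
  intro A hA
  ext i j
  have h := congrFun ((c.emb_smul A (Pi.single j 1)).symm.trans (by rw [hA, one_smul])) i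
  rw [Matrix.mulVec_single_one] at h
  simpa [Matrix.one_apply, Pi.single_apply] using h

theorem pow_smul_of_semilinear {a : H} {σ : F → F}
    (hσ : ∀ (d : F) (w : Fin 2 → F), a • (d • w) = σ d • (a • w)) :
    ∀ (k : ℕ) (d : F) (w : Fin 2 → F), a ^ k • (d • w) = (σ^[k] d) • (a ^ k • w) := by
  intro k
  induction k with
  | zero => intro d w; simp
  | succ k ih =>
    intro d w
    rw [pow_succ', mul_smul, ih, hσ, Function.iterate_succ_apply', mul_smul]

theorem semilinear [Finite F] {n : H} (hn : n ∈ Subgroup.normalizer (c.L : Set H)) :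
    ∃ σ : F ≃+* F, ∀ (d : F) (w : Fin 2 → F), n • (d • w) = σ d • (n • w) := by
  let f : F → ((Fin 2 → F) →+ (Fin 2 → F)) := fun d =>
    AddMonoidHom.mk' (fun w => n • (d • (n⁻¹ • w))) fun v w => by
      simp only [smul_add]
  have hf : ∀ d w, f d w = (f d ![1, 0] 0) • w := by
    intro d
    refine eq_smul_of_commute (f d) fun A w => ?_
    obtain ⟨B, hB⟩ : ∃ B, c.emb B = n⁻¹ * c.emb A * n := by
      have h := (Subgroup.mem_normalizer_iff.1 (inv_mem hn) (c.emb A)).1 ⟨A, rfl⟩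
      rw [inv_inv] at h
      exact h
    show n • (d • (n⁻¹ • ((A : Matrix (Fin 2) (Fin 2) F).mulVec w))) =
      (A : Matrix (Fin 2) (Fin 2) F).mulVec (n • (d • (n⁻¹ • w)))
    have e1 : n⁻¹ * c.emb A = c.emb B * n⁻¹ := by rw [hB, mul_inv_cancel_right]
    have e2 : c.emb A * n = n * c.emb B := by rw [hB]; group
    rw [← c.emb_smul, ← c.emb_smul, ← mul_smul n⁻¹, e1, mul_smul, c.emb_smul,
      ← Matrix.mulVec_smul, ← c.emb_smul, ← mul_smul n (c.emb B), ← e2, mul_smul]
  let s : F → F := fun d => f d ![1, 0] 0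
  have hs : ∀ (d : F) (w : Fin 2 → F), n • (d • w) = s d • (n • w) := by
    intro d w
    have h := hf d (n • w)
    rw [show f d (n • w) = n • (d • w) by
      show n • (d • (n⁻¹ • (n • w))) = _; rw [inv_smul_smul]] at h
    exact h
  let σ : F →+* F :=
    { toFun := s
      map_one' := by
        show (n • ((1 : F) • (n⁻¹ • (![1, 0] : Fin 2 → F)))) 0 = 1
        rw [one_smul, smul_inv_smul]; simp
      map_mul' := fun d d' => by
        have h : f (d * d') ![1, 0] = (s d * s d') • (![1, 0] : Fin 2 → F) := by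
          show n • ((d * d') • (n⁻¹ • (![1, 0] : Fin 2 → F))) = _
          rw [mul_smul, hs, mul_smul (s d)]
          exact congrArg _ (hf d' _)
        show f (d * d') ![1, 0] 0 = _
        rw [h]; simp
      map_zero' := by
        show (n • ((0 : F) • (n⁻¹ • (![1, 0] : Fin 2 → F)))) 0 = 0
        rw [zero_smul, smul_zero]; simp
      map_add' := fun d d' => by
        show (n • ((d + d') • (n⁻¹ • (![1, 0] : Fin 2 → F)))) 0 = _
        rw [add_smul, smul_add]; rfl }
  exact ⟨RingEquiv.ofBijective σ ⟨σ.injective, Finite.injective_iff_surjective.1 σ.injective⟩,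
    fun d w => hs d w⟩

variable [Finite F] [Finite H] [hp : Fact p.Prime] [CharP F p]

theorem nsmul_eq_zero (w : Fin 2 → F) : p • w = 0 := by
  funext i; simp [nsmul_eq_mul, CharP.cast_eq_zero]

theorem pow_p_U {x : H} (hx : x ∈ c.U) : x ^ p = 1 := by
  obtain ⟨a, rfl⟩ := c.exists_u hx
  rw [u, ← map_pow, PLocalB.upper_pow, CharP.cast_eq_zero, zero_mul, PLocalB.upper_zero, map_one]

theorem T_inf_L : (c.T : Subgroup H) ⊓ c.L = c.U := by
  refine le_antisymm ?_ (le_inf c.U_le (Subgroup.map_le_range _ _))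
  have hcm : (c.T : Subgroup H).comap c.emb = upperGroup F :=
    (LocalEven61.upperSylow (p := p)).is_maximal'
      (c.T.isPGroup'.comap_of_injective c.emb c.emb_injective)
      (Subgroup.map_le_iff_le_comap.1 c.U_le)
  rintro x ⟨hxT, A, rfl⟩
  exact ⟨A, hcm ▸ hxT, rfl⟩

/-- The setwise stabiliser of `Z`. -/
def GZ : Subgroup H where
  carrier := {g | ∀ z : Fin 2 → F, z ∈ c.Z ↔ g • z ∈ c.Z}
  one_mem' := fun z => by rw [one_smul]
  mul_mem' := fun {a b} ha hb z => by rw [mul_smul]; exact (hb z).trans (ha _)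
  inv_mem' := fun {a} ha z => by rw [ha (a⁻¹ • z), smul_inv_smul]

theorem mem_GZ {g : H} (h : ∀ z ∈ c.Z, g • z ∈ c.Z) : g ∈ c.GZ := by
  intro z
  refine ⟨h z, fun hz => ?_⟩
  have hs : Function.Surjective (fun z : c.Z => (⟨g • (z : Fin 2 → F), h _ z.2⟩ : c.Z)) :=
    Finite.injective_iff_surjective.1 fun a b hab =>
      Subtype.ext (smul_left_cancel g (congrArg Subtype.val hab))
  obtain ⟨y, hy⟩ := hs ⟨g • z, hz⟩
  have : (y : Fin 2 → F) = z := smul_left_cancel g (congrArg Subtype.val hy)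
  exact this ▸ y.2

theorem smul_mem_Z {g : H} (hg : g ∈ c.GZ) {z : Fin 2 → F} (hz : z ∈ c.Z) : g • z ∈ c.Z :=
  (hg z).1 hz

theorem T_le_GZ : (c.T : Subgroup H) ≤ c.GZ := by
  intro t ht
  refine c.mem_GZ fun z hz x hx => ?_
  have h1 : t⁻¹ * x * t ∈ (c.T : Subgroup H) ⊓ c.L := by
    refine Subgroup.mem_inf.2 ⟨mul_mem (mul_mem (inv_mem ht) (c.U_le hx)) ht, ?_⟩
    have h := (Subgroup.mem_normalizer_iff.1 (inv_mem (c.T_le ht)) x).1 (Subgroup.map_le_range _ _ hx)
    rwa [inv_inv] at h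
  rw [T_inf_L] at h1
  have h2 := congrArg (t • ·) (hz _ h1)
  simpa [← mul_smul, mul_assoc] using h2

/-- The elements trivial on `Z` and on the quotient by `Z`. -/
def Q : Subgroup H where
  carrier := {d | (∀ v : Fin 2 → F, d • v - v ∈ c.Z) ∧ ∀ z ∈ c.Z, d • z = z}
  one_mem' := ⟨fun v => by rw [one_smul, sub_self]; exact zero_mem _, fun z _ => one_smul H z⟩
  mul_mem' := by
    rintro a b ⟨a1, a2⟩ ⟨b1, b2⟩
    refine ⟨fun v => ?_, fun z hz => by rw [mul_smul, b2 z hz, a2 z hz]⟩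
    have h := add_mem (a1 (b • v)) (b1 v)
    rwa [sub_add_sub_cancel, ← mul_smul] at h
  inv_mem' := by
    rintro a ⟨a1, a2⟩
    refine ⟨fun v => ?_, fun z hz => by rw [inv_smul_eq_iff, a2 z hz]⟩
    have h := neg_mem (a1 (a⁻¹ • v))
    rwa [smul_inv_smul, neg_sub] at h

theorem Q_isPGroup : IsPGroup p c.Q := by
  rintro ⟨d, d1, d2⟩
  refine ⟨1, Subtype.ext (c.faith _ fun v => ?_)⟩
  have key : ∀ k : ℕ, d ^ k • v = v + k • (d • v - v) := by
    intro k
    induction k with
    | zero => simp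
    | succ k ih =>
      rw [pow_succ', mul_smul, ih, smul_add, d2 _ (AddSubgroup.nsmul_mem _ (d1 v) k), succ_nsmul]
      abel
  rw [pow_one, SubmonoidClass.coe_pow, key, nsmul_eq_zero, add_zero]

theorem conj_mem_Q {g d : H} (hg : g ∈ c.GZ) (hd : d ∈ c.Q) : g * d * g⁻¹ ∈ c.Q := by
  refine ⟨fun v => ?_, fun z hz => ?_⟩
  · have h := c.smul_mem_Z hg (hd.1 (g⁻¹ • v))
    rwa [smul_sub, smul_inv_smul, ← mul_smul, ← mul_smul] at h
  · rw [mul_smul, mul_smul, hd.2 _ (c.smul_mem_Z (inv_mem hg) hz), smul_inv_smul]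

theorem Q_le_T : c.Q ≤ (c.T : Subgroup H) := by
  have hn : (c.T : Subgroup H) ≤ Subgroup.normalizer (c.Q : Set H) := by
    intro t ht
    rw [Subgroup.mem_normalizer_iff]
    refine fun d => ⟨c.conj_mem_Q (c.T_le_GZ ht), fun h => ?_⟩
    have := c.conj_mem_Q (inv_mem (c.T_le_GZ ht)) h
    simpa [mul_assoc] using this
  have hP : IsPGroup p ↥((c.T : Subgroup H) ⊔ c.Q) :=
    c.T.isPGroup'.to_sup_of_normal_right' c.Q_isPGroup hn
  exact (le_sup_right : c.Q ≤ _).trans_eq (c.T.is_maximal' hP le_sup_left)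

theorem Q_eq : c.Q = c.U := by
  refine le_antisymm (fun d hd => ?_) fun x hx => ⟨c.quad_U hx, fun z hz => hz x hx⟩
  obtain ⟨σ, hσ⟩ := c.semilinear (c.T_le (c.Q_le_T hd))
  have h0 : d • (![1, 0] : Fin 2 → F) = ![1, 0] := hd.2 _ (c.e0_mem 1)
  have hid : ∀ r, σ r = r := fun r => by
    have h := hd.2 _ (c.e0_mem r)
    rw [show (![r, 0] : Fin 2 → F) = r • ![1, 0] by simp, hσ, h0] at h
    simpa using congrFun h 0
  have h1 : (d • (![0, 1] : Fin 2 → F)) 1 = 1 := by
    have h := c.mem_Z.1 (hd.1 ![0, 1])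
    rw [Pi.sub_apply, sub_eq_zero] at h
    simpa using h
  refine (?_ : d = c.u ((d • (![0, 1] : Fin 2 → F)) 0)) ▸ c.u_mem _
  set b := (d • (![0, 1] : Fin 2 → F)) 0 with hb
  refine (inv_mul_eq_one.1 (c.faith _ fun w => ?_)).symm
  have e : w = w 0 • ![1, 0] + w 1 • ![0, 1] := by funext i; fin_cases i <;> simp
  rw [mul_smul, inv_smul_eq_iff, u_smul]
  conv_lhs => rw [e, smul_add, hσ, hσ, hid, hid, h0]
  funext i
  fin_cases i <;> simp [← hb, h1, mul_comm]

theorem cj_U_of_mem_GZ {g : H} (hg : g ∈ c.GZ) : cj g c.U = c.U := by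
  rw [← Q_eq]
  ext x
  rw [mem_cj]
  refine ⟨fun h => ?_, fun h => ?_⟩
  · simpa [mul_assoc] using c.conj_mem_Q hg h
  · simpa using c.conj_mem_Q (inv_mem hg) h

theorem mem_GZ_of_fix {g : H} (h : (fix (cj g c.U) : AddSubgroup (Fin 2 → F)) = c.Z) : g ∈ c.GZ := by
  refine c.mem_GZ fun z hz => ?_
  rw [← h, mem_fix_cj, inv_smul_smul]
  exact hz

theorem fix_inj {g g' : H}
    (h : (fix (cj g c.U) : AddSubgroup (Fin 2 → F)) = fix (cj g' c.U)) :
    cj g c.U = cj g' c.U := by
  have hm : g'⁻¹ * g ∈ c.GZ := c.mem_GZ fun z hz => by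
    have h1 : g • z ∈ (fix (cj g c.U) : AddSubgroup (Fin 2 → F)) := by
      rw [mem_fix_cj, inv_smul_smul]; exact hz
    rw [h, mem_fix_cj, ← mul_smul] at h1
    exact h1
  conv_rhs => rw [← c.cj_U_of_mem_GZ hm, ← cj_mul, mul_inv_cancel_left]

theorem smul_eq_mem_fix {g a : H} (ha : a ∈ cj g c.U) (ha1 : a ≠ 1) {w : Fin 2 → F}
    (h : a • w = w) : w ∈ (fix (cj g c.U) : AddSubgroup (Fin 2 → F)) := by
  refine mem_fix_cj.2 (c.mem_Z_of_smul_eq (mem_cj.1 ha) (fun e => ha1 ?_) ?_)
  · calc a = g * (g⁻¹ * a * g) * g⁻¹ := by group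
      _ = 1 := by rw [e]; group
  · rw [mul_smul, mul_smul, smul_inv_smul, h]

theorem quad_cj {g a : H} (ha : a ∈ cj g c.U) (w : Fin 2 → F) :
    a • w - w ∈ (fix (cj g c.U) : AddSubgroup (Fin 2 → F)) := by
  refine mem_fix_cj.2 ?_
  have h := c.quad_U (mem_cj.1 ha) (g⁻¹ • w)
  rwa [mul_smul, mul_smul, smul_inv_smul, ← smul_sub] at h

theorem card_fix_U (g : H) :
    Nat.card ↥(fix (cj g c.U) : AddSubgroup (Fin 2 → F)) = Nat.card F :=
  Nat.card_congr
    { toFun := fun v => (g⁻¹ • (v : Fin 2 → F)) 0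
      invFun := fun x => ⟨g • ![x, 0], mem_fix_cj.2 (by rw [inv_smul_smul]; exact c.e0_mem x)⟩
      left_inv := fun v => Subtype.ext (by
        show g • ![(g⁻¹ • (v : Fin 2 → F)) 0, 0] = _
        rw [← c.eq_of_mem_Z (mem_fix_cj.1 v.2), smul_inv_smul])
      right_inv := fun x => by simp }

/-- An element of a conjugate of `U` stabilising `Z` forces that conjugate to be `U`. -/
def Key : Prop := ∀ g : H, ∀ a ∈ cj g c.U, a ≠ 1 → a ∈ c.GZ → cj g c.U = c.U

/-- It suffices to check `Key` on the elements of `T`. -/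
theorem key_of_T (h : ∀ g : H, ∀ a ∈ cj g c.U, a ≠ 1 → a ∈ (c.T : Subgroup H) → cj g c.U = c.U) :
    c.Key := by
  intro g a ha ha1 haZ
  have hap : IsPGroup p (Subgroup.zpowers (⟨a, haZ⟩ : c.GZ)) := by
    refine IsPGroup.of_card (n := 1) ?_
    rw [Nat.card_zpowers, pow_one, Subgroup.orderOf_mk, orderOf_eq_prime (p := p) ?_ ha1]
    have h := c.pow_p_U (mem_cj.1 ha)
    have e : a = MulAut.conj g (g⁻¹ * a * g) := by simp [mul_assoc]
    rw [e, ← map_pow, h, map_one]
  obtain ⟨P, hP⟩ := hap.exists_le_sylow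
  obtain ⟨k, hk⟩ := MulAction.exists_smul_eq c.GZ P (c.T.subtype c.T_le_GZ)
  have hmem : (k : H) * a * (k : H)⁻¹ ∈ (c.T : Subgroup H) := by
    have h1 : k * ⟨a, haZ⟩ * k⁻¹ ∈ ((k • P : Sylow p c.GZ) : Subgroup c.GZ) :=
      Subgroup.mem_map_of_mem _ (hP (Subgroup.mem_zpowers _))
    rw [hk] at h1
    exact h1
  have h2 : (k : H) * a * (k : H)⁻¹ ∈ cj ((k : H) * g) c.U := by
    rw [cj_mul, mem_cj]; simpa [mul_assoc] using ha
  have h3 := h _ _ h2 (by simpa using ha1) hmem
  calc cj g c.U = cj (k : H)⁻¹ (cj ((k : H) * g) c.U) := by rw [← cj_mul, inv_mul_cancel_left]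
    _ = c.U := by rw [h3, c.cj_U_of_mem_GZ (inv_mem k.2)]

/-- The element exchanging the axes. -/
def flipElt : SL(2, F) := ⟨!![0, -1; 1, 0], by simp [Matrix.det_fin_two]⟩

theorem lower_eq (a : F) :
    lower a = (flipElt : SL(2, F)) * upper (-a) * (flipElt : SL(2, F))⁻¹ := by
  apply Subtype.ext
  rw [Matrix.SpecialLinearGroup.coe_mul, Matrix.SpecialLinearGroup.coe_mul,
    Matrix.SpecialLinearGroup.coe_inv]
  simp [flipElt, upper, lower, Matrix.adjugate_fin_two, Matrix.mul_fin_two]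

/-- The system of conjugates of `U`. -/
noncomputable def sys (hk : c.Key) :
    Sys (H := H) (V := Fin 2 → F) (Nat.card F) (AddSubgroup (Fin 2 → F)) where
  fam := Set.range fun g => cj g c.U
  lab := fun A => fix A
  card := by
    rintro _ ⟨g, rfl⟩
    rw [card_cj, Subgroup.card_map_of_injective c.emb_injective, LocalEven61.card_upperGroup]
  quad := by rintro _ ⟨g, rfl⟩ a ha v; exact c.quad_cj ha v
  le := by
    rintro _ ⟨g, rfl⟩
    rw [card_fix_U, Nat.card_fun, Nat.card_fin, sq]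
  conj_mem := by rintro _ - _ ⟨g, rfl⟩ a -; exact ⟨a * g, cj_mul a g _⟩
  lab_conj := by
    rintro _ - _ ⟨g, rfl⟩ _ ⟨g', rfl⟩ a - h
    simp only at h ⊢
    rw [c.fix_inj h]
  free := by
    rintro _ ⟨g, rfl⟩ _ ⟨g', rfl⟩ hne a ha ha1 h
    simp only at hne h ha
    rw [← cj_mul] at h
    have h' := c.fix_inj h
    apply hne
    have hz : g'⁻¹ * a * g' ∈ c.GZ := c.mem_GZ_of_fix (by
      rw [mul_assoc, cj_mul, h', ← cj_mul, inv_mul_cancel, cj_one])
    have he := hk (g'⁻¹ * g) _ (by rw [cj_mul, mem_cj]; simpa [mul_assoc] using ha)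
      (fun e => ha1 (by
        calc a = g' * (g'⁻¹ * a * g') * g'⁻¹ := by group
          _ = 1 := by rw [e]; group)) hz
    conv_rhs => rw [← he, ← cj_mul, mul_inv_cancel_left]
  noncomm := by
    rintro _ ⟨g, rfl⟩ _ ⟨g', rfl⟩ hne hcomm
    simp only at hne hcomm
    apply hne
    obtain ⟨a, ha, ha1⟩ : ∃ a ∈ cj g c.U, a ≠ 1 := by
      refine ⟨MulAut.conj g (c.u 1), Subgroup.mem_map_of_mem _ (c.u_mem 1), fun e => ?_⟩
      rw [map_eq_one_iff _ (MulAut.conj g).injective] at e
      have := congrArg (fun h : H => h • (![0, 1] : Fin 2 → F)) e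
      rw [one_smul, u_smul] at this
      simpa using congrFun this 0
    have hfix : cj (a * g') c.U = cj g' c.U := by
      ext x
      rw [cj_mul, mem_cj (g := a)]
      constructor
      · intro hx
        have e : a * (a⁻¹ * x * a) * a⁻¹ = x := by simp [mul_assoc]
        rw [hcomm a ha _ hx, mul_inv_cancel_right] at e
        rwa [e] at hx
      · intro hx
        rwa [mul_assoc, ← hcomm a ha x hx, inv_mul_cancel_left]
    have hz : g'⁻¹ * a * g' ∈ c.GZ := c.mem_GZ_of_fix (by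
      rw [mul_assoc, cj_mul, hfix, ← cj_mul, inv_mul_cancel, cj_one])
    have he := hk (g'⁻¹ * g) _ (by rw [cj_mul, mem_cj]; simpa [mul_assoc] using ha)
      (fun e => ha1 (by
        calc a = g' * (g'⁻¹ * a * g') * g'⁻¹ := by group
          _ = 1 := by rw [e]; group)) hz
    conv_rhs => rw [← he, ← cj_mul, mul_inv_cancel_left]

theorem normal_of_key (hk : c.Key) : c.L.Normal := by
  set S := c.sys hk
  have hsmall : S.Small := by
    rintro _ ⟨g, rfl⟩ _ ⟨g', rfl⟩ h - -
    exact c.fix_inj h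
  have hU : c.U ∈ S.fam := ⟨1, cj_one _⟩
  set U' := cj (c.emb flipElt) c.U with hU'
  have hAB : S.lab c.U ≠ S.lab U' := by
    intro h
    change c.Z = fix U' at h
    have h1 : c.emb flipElt • (![1, 0] : Fin 2 → F) ∈ (fix U' : AddSubgroup (Fin 2 → F)) := by
      rw [hU', mem_fix_cj, inv_smul_smul]; exact c.e0_mem 1
    rw [← h, c.mem_Z, c.emb_smul, sl2_smul_apply] at h1
    simp [flipElt] at h1
  have hUL : c.U ≤ c.L := Subgroup.map_le_range _ _
  have hcjL : ∀ x ∈ c.L, ∀ A : Subgroup H, A ≤ c.L → cj x A ≤ c.L := by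
    intro x hx A hA y hy
    have := c.L.mul_mem (c.L.mul_mem hx (hA (mem_cj.1 hy))) (c.L.inv_mem hx)
    simpa [mul_assoc] using this
  have hall : ∀ g, cj g c.U ≤ c.L := by
    intro g
    by_cases h : S.lab c.U = S.lab (cj g c.U)
    · have := c.fix_inj (g := 1) (g' := g) (by rw [cj_one]; exact h)
      rw [← this, cj_one]; exact hUL
    · obtain ⟨a, ha, he⟩ := S.orbit c.faith hsmall hU ⟨_, rfl⟩ ⟨g, rfl⟩ hAB h
      simp only at he
      rw [he]
      exact hcjL a (hUL ha) _ (hcjL _ ⟨_, rfl⟩ _ hUL)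
  refine ⟨?_⟩
  rintro _ ⟨A, rfl⟩ h
  let K : Subgroup SL(2, F) := c.L.comap ((MulAut.conj h).toMonoidHom.comp c.emb)
  suffices hK : K = ⊤ by
    have : A ∈ K := hK ▸ Subgroup.mem_top A
    exact this
  have hu : ∀ a, upper a ∈ K := fun a => hall h (Subgroup.mem_map_of_mem _ (c.u_mem a))
  refine eq_top_iff.mpr fun B _ => Matrix.SL2.transvection_induction (fun B => B ∈ K) ?_
    (fun _ _ => mul_mem) B
  intro i j hij r
  fin_cases i <;> fin_cases j <;> first | exact absurd rfl hij | skip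
  · have e : Matrix.SpecialLinearGroup.transvection hij r = upper r := by
      ext a b
      fin_cases a <;> fin_cases b <;>
        simp [Matrix.SpecialLinearGroup.transvection_coe, upper, Matrix.transvection, Matrix.one_apply,
          Matrix.single_apply]
    rw [e]; exact hu r
  · have e : Matrix.SpecialLinearGroup.transvection hij r = lower r := by
      ext a b
      fin_cases a <;> fin_cases b <;>
        simp [Matrix.SpecialLinearGroup.transvection_coe, lower, Matrix.transvection, Matrix.one_apply,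
          Matrix.single_apply]
    rw [e, lower_eq]
    refine hall (h * c.emb flipElt) ?_
    rw [mem_cj]
    simpa [mul_assoc] using c.u_mem (-r)

end Ctx

end Cfsg.Agent.FG78.SL2Nat
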