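import Mathlib

/-!
Subgroups of index at most six, and of index eight, in small alternating groups.
-/

set_option autoImplicit false

namespace Cfsg.Agent.FG78.SL2Nat

open Equiv

/-- A subgroup of index eight in `A₈` is `A₇`. -/
theorem alt_seven_of_index_eight (R : Subgroup ↥(alternatingGroup (Fin 8))) (hR : R.index = 8) :
    Nonempty (↥R ≃* ↥(alternatingGroup (Fin 7))) := by
  classical
  let G := ↥(alternatingGroup (Fin 8))
  have hs : IsSimpleGroup G := alternatingGroup.isSimpleGroup (by simp)
  let e : G ⧸ R ≃ Fin 8 := Finite.equivFinOfCardEq hR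
  let φ : G →* Perm (Fin 8) := e.permCongrHom.toMonoidHom.comp (MulAction.toPermHom G (G ⧸ R))
  have hφ : Function.Injective φ := by
    refine e.permCongrHom.injective.comp ?_
    rw [← MonoidHom.ker_eq_bot_iff, ← Subgroup.normalCore_eq_ker]
    refine (Subgroup.Normal.eq_bot_or_eq_top R.normalCore_normal).resolve_right fun h => ?_
    have : R = ⊤ := eq_top_iff.2 (h ▸ R.normalCore_le)
    rw [this, Subgroup.index_top] at hR
    omega
  have hcG : Nat.card G = 20160 := by
    show Nat.card ↥(alternatingGroup (Fin 8)) = 20160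
    rw [nat_card_alternatingGroup, Nat.card_fin]; rfl
  have hrange : φ.range = alternatingGroup (Fin 8) := by
    refine Equiv.Perm.eq_alternatingGroup_of_index_eq_two ?_
    have h := φ.range.card_mul_index
    rw [← Nat.card_congr (MonoidHom.ofInjective hφ).toEquiv, hcG, Nat.card_perm, Nat.card_fin] at h
    simp [Nat.factorial] at h
    omega
  set x₀ : Fin 8 := e ((1 : G) : G ⧸ R) with hx₀
  let f : {x : Fin 8 // x ≠ x₀} ≃ Fin 7 := Fintype.equivFinOfCardEq (by simp)
  let ι : ↥(alternatingGroup (Fin 7)) →* Perm (Fin 8) :=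
    (Equiv.Perm.ofSubtype.comp f.symm.permCongrHom.toMonoidHom).comp
      (alternatingGroup (Fin 7)).subtype
  have hι : Function.Injective ι :=
    (Equiv.Perm.ofSubtype_injective.comp f.symm.permCongrHom.injective).comp Subtype.val_injective
  have hιalt : ∀ a, ι a ∈ φ.range := fun a => by
    rw [hrange, Equiv.Perm.mem_alternatingGroup]
    show Equiv.Perm.sign (Equiv.Perm.ofSubtype (f.symm.permCongr (a : Perm (Fin 7)))) = 1
    rw [Equiv.Perm.sign_ofSubtype, Equiv.Perm.sign_permCongr]
    exact a.2
  let ψ : ↥(alternatingGroup (Fin 7)) →* G :=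
    (MonoidHom.ofInjective hφ).symm.toMonoidHom.comp (ι.codRestrict φ.range hιalt)
  have hψ : ∀ a, φ (ψ a) = ι a := fun a => by
    show φ ((MonoidHom.ofInjective hφ).symm ⟨ι a, hιalt a⟩) = ι a
    exact congrArg Subtype.val ((MonoidHom.ofInjective hφ).apply_symm_apply ⟨ι a, hιalt a⟩)
  have hmem : ∀ a, ψ a ∈ R := fun a => by
    have h1 : ι a x₀ = x₀ := by
      show Equiv.Perm.ofSubtype (f.symm.permCongr (a : Perm (Fin 7))) x₀ = x₀
      exact Equiv.Perm.ofSubtype_apply_of_not_mem _ (by simp)
    rw [← hψ] at h1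
    have h2 : (ψ a) • ((1 : G) : G ⧸ R) = ((1 : G) : G ⧸ R) := by
      refine e.injective ?_
      have h3 : e ((ψ a) • e.symm x₀) = x₀ := h1
      rwa [hx₀, e.symm_apply_apply] at h3
    rw [MulAction.Quotient.smul_coe, smul_eq_mul, mul_one, QuotientGroup.eq] at h2
    rw [mul_one] at h2
    exact inv_mem_iff.1 h2
  let χ : ↥(alternatingGroup (Fin 7)) →* ↥R := ψ.codRestrict R hmem
  have hχ : Function.Injective χ := fun a b h => hι (by
    have : ψ a = ψ b := congrArg Subtype.val h
    rw [← hψ, ← hψ, this])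
  have hcR : Nat.card ↥R = 2520 := by
    have h := R.card_mul_index
    rw [hR, hcG] at h
    omega
  have hc7 : Nat.card ↥(alternatingGroup (Fin 7)) = 2520 := by
    rw [nat_card_alternatingGroup, Nat.card_fin]; rfl
  exact ⟨(MulEquiv.ofBijective χ ((Nat.bijective_iff_injective_and_card χ).2
    ⟨hχ, hc7.trans hcR.symm⟩)).symm⟩

/-- The symmetric group of degree 7 has no subgroup of order 840. -/
theorem card_ne_840 {Ω : Type*} [Finite Ω] (hΩ : Nat.card Ω = 7) (J : Subgroup (Perm Ω)) :
    Nat.card ↥J ≠ 840 := by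
  classical
  intro hJ
  haveI := Fintype.ofFinite Ω
  have h7 : Nat.card (Perm Ω) = 5040 := by rw [Nat.card_perm, hΩ]; rfl
  have hA : Nat.card ↥(alternatingGroup Ω) = 2520 := by
    haveI : Nontrivial Ω := Finite.one_lt_card_iff_nontrivial.1 (by omega)
    rw [nat_card_alternatingGroup, hΩ]; rfl
  have hs : IsSimpleGroup ↥(alternatingGroup Ω) := alternatingGroup.isSimpleGroup (by omega)
  let K : Subgroup ↥(alternatingGroup Ω) := J.subgroupOf (alternatingGroup Ω)
  have hKi : K.index ≤ 6 := by
    have hJi : J.index = 6 := by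
      have h := J.card_mul_index
      rw [hJ, h7] at h
      omega
    have h := Subgroup.relIndex_le_of_le_right (H := J) (le_top : alternatingGroup Ω ≤ ⊤)
      (by rw [Subgroup.relIndex_top_right, hJi]; norm_num)
    rwa [Subgroup.relIndex_top_right, hJi] at h
  have hinj : Function.Injective (MulAction.toPermHom ↥(alternatingGroup Ω)
      (↥(alternatingGroup Ω) ⧸ K)) := by
    rw [← MonoidHom.ker_eq_bot_iff, ← Subgroup.normalCore_eq_ker]
    refine (Subgroup.Normal.eq_bot_or_eq_top K.normalCore_normal).resolve_right fun h => ?_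
    have hK : K = ⊤ := eq_top_iff.2 (h ▸ K.normalCore_le)
    have hle := Subgroup.card_le_of_le (Subgroup.subgroupOf_eq_top.1 hK)
    omega
  have h := Nat.card_le_card_of_injective _ hinj
  rw [hA, Nat.card_perm, ← Subgroup.index] at h
  have : K.index.factorial ≤ Nat.factorial 6 := Nat.factorial_le hKi
  simp [Nat.factorial] at this
  omega

end Cfsg.Agent.FG78.SL2Nat
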