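import Cfsg.Agent.FG78.SL2Nat.Key
import Cfsg.Agent.FG78.SL2Nat.SmallGroupFacts
import Cfsg.Agent.Lib.LinearGroup.PSL42

/-!
The field with four elements: `L` is normal or the group is `A₇`.
-/

set_option autoImplicit false
set_option linter.unusedSectionVars false

open scoped MatrixGroups

namespace Cfsg.Agent.FG78.SL2Nat

open Cfsg.Agent.PLocalB (upper lower)
open Cfsg.Agent.FFSL2

variable {F : Type*} [Field F] [Finite F]
variable {H : Type*} [Group H] [Finite H] [DistribMulAction H (Fin 2 → F)]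

/-- Two non-trivial automorphisms of the field with four elements agree. -/
theorem aut_four_unique (p : ℕ) [Fact p.Prime] [CharP F p] (hF : Nat.card F = 4) {τ τ' : F ≃+* F}
    (hne : ∃ x, τ x ≠ x) (hne' : ∃ x, τ' x ≠ x) : τ = τ' := by
  letI : Algebra (ZMod p) F := ZMod.algebra F p
  have hp2 : p = 2 := by
    haveI := Fintype.ofFinite F
    obtain ⟨n, hp, hn⟩ := FiniteField.card F p
    have h : p ∣ 2 ^ 2 := by
      rw [show (2 : ℕ) ^ 2 = Nat.card F by omega, Nat.card_eq_fintype_card, hn]
      exact dvd_pow_self p n.pos.ne'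
    exact (Nat.prime_dvd_prime_iff_eq hp Nat.prime_two).1 (hp.dvd_of_dvd_pow h)
  subst hp2
  have hfr : Module.finrank (ZMod 2) F = 2 := by
    haveI := Fintype.ofFinite F
    have h := Module.card_eq_pow_finrank (K := ZMod 2) (V := F)
    rw [ZMod.card, ← Nat.card_eq_fintype_card, hF] at h
    exact (Nat.pow_right_injective le_rfl (show 2 ^ 2 = 2 ^ _ from h)).symm
  have hinv : ∀ e : F ≃+* F, ∀ x, e (e x) = x := by
    intro e x
    let e' : F ≃ₐ[ZMod 2] F := AlgEquiv.ofRingEquiv (f := e) fun r => RingHom.congr_fun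
      (Subsingleton.elim ((e : F →+* F).comp (algebraMap (ZMod 2) F)) (algebraMap (ZMod 2) F)) r
    have hc : Nat.card (F ≃ₐ[ZMod 2] F) = 2 := by
      rw [IsGalois.card_aut_eq_finrank, hfr]
    have h : e' ^ Nat.card (F ≃ₐ[ZMod 2] F) = 1 := pow_card_eq_one'
    rw [hc] at h
    rw [pow_two] at h
    exact congrArg (fun a : F ≃ₐ[ZMod 2] F => a x) h
  exact involution_unique 2 (hinv τ) (hinv τ') hne hne'

theorem zmod_two_eq_one : ∀ {x : ZMod 2}, x ≠ 0 → x = 1 := by decide

namespace Ctx

section

variable [CharP F 2] (c : Ctx F 2 H) (hF : Nat.card F = 4)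
include c hF

theorem card_L : Nat.card ↥c.L = 60 := by
  rw [← Nat.card_congr (MonoidHom.ofInjective c.emb_injective).toEquiv, LinearGroup.card_SL_two, hF]
  rfl

theorem isSimple_L : IsSimpleGroup ↥c.L := by
  haveI : Fact (Nat.Prime 2) := ⟨Nat.prime_two⟩
  have h : Fintype.card (Fin 2) = 2 → ∃ a : F, a ≠ 0 ∧ a ^ 2 ≠ 1 := by
    intro _
    classical
    haveI := Fintype.ofFinite F
    obtain ⟨a, -, ha⟩ := Finset.exists_mem_notMem_of_card_lt_card
      (s := ({0, 1} : Finset F)) (t := (Finset.univ : Finset F))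
      (by rw [Finset.card_pair zero_ne_one, Finset.card_univ, ← Nat.card_eq_fintype_card, hF]
          norm_num)
    simp only [Finset.mem_insert, Finset.mem_singleton, not_or] at ha
    refine ⟨a, ha.1, fun h2 => ha.2 (frobenius_inj F 2 ?_)⟩
    show a ^ 2 = 1 ^ 2
    rw [h2, one_pow]
  haveI := LinearGroup.isSimpleGroup_PSL' (ι := Fin 2) (F := F) h
  let e : ↥c.L ≃* Matrix.ProjectiveSpecialLinearGroup (Fin 2) F :=
    (MonoidHom.ofInjective c.emb_injective).symm.trans
      (LinearGroup.slEquivPSL (by rw [hF]; rfl))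
  exact e.isSimpleGroup

theorem key_or_card_T : c.Key ∨ Nat.card ↥(c.T : Subgroup H) = 8 := by
  haveI : Fact (Nat.Prime 2) := ⟨Nat.prime_two⟩
  have hU : Nat.card ↥c.U = 4 := by
    rw [Subgroup.card_map_of_injective c.emb_injective, LocalEven61.card_upperGroup, hF]
  by_cases hT : (c.T : Subgroup H) = c.U
  · left
    refine c.key_of_T fun g a ha ha1 haT => ?_
    refine c.cj_U_of_mem_GZ (c.mem_GZ fun z hz => ?_)
    have h1 : g • z ∈ (fix (cj g c.U) : AddSubgroup (Fin 2 → F)) := by
      rw [mem_fix_cj, inv_smul_smul]; exact hz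
    exact c.mem_Z_of_smul_eq (hT ▸ haT) ha1 (h1 a ha)
  right
  obtain ⟨t₀, ht₀, ht₀U⟩ := SetLike.not_le_iff_exists.1 fun h => hT (le_antisymm h c.U_le)
  have hlin : ∀ {t : H}, t ∈ (c.T : Subgroup H) → ∀ {σ : F ≃+* F},
      (∀ (d : F) (w : Fin 2 → F), t • (d • w) = σ d • (t • w)) → (∀ d, σ d = d) → t ∈ c.U := by
    intro t ht σ hσ hid
    obtain ⟨k, hk⟩ := c.T.isPGroup' ⟨t, ht⟩
    exact c.mem_U_of_linear (k₀ := k) ht (congrArg Subtype.val hk) fun d w => by rw [hσ, hid]
  obtain ⟨σ₀, hσ₀⟩ := c.semilinear (c.T_le ht₀)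
  have hne₀ : ∃ x, σ₀ x ≠ x := by
    by_contra! h
    exact ht₀U (hlin ht₀ hσ₀ h)
  have hcov : ∀ t ∈ (c.T : Subgroup H), t ∈ c.U ∨ t₀⁻¹ * t ∈ c.U := by
    intro t ht
    obtain ⟨σ, hσ⟩ := c.semilinear (c.T_le ht)
    by_cases hid : ∀ d, σ d = d
    · exact Or.inl (hlin ht hσ hid)
    push Not at hid
    have he : σ = σ₀ := aut_four_unique 2 hF hid hne₀
    refine Or.inr (hlin (mul_mem (inv_mem ht₀) ht) (σ := RingEquiv.refl F) (fun d w => ?_) fun _ => rfl)
    rw [mul_smul, hσ, mul_smul, inv_smul_eq_iff, hσ₀, he, smul_inv_smul]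
    rfl
  refine le_antisymm ?_ ?_
  · have : Nat.card ↥(c.T : Subgroup H) ≤ Nat.card (↥c.U ⊕ ↥c.U) := by
      classical
      refine Nat.card_le_card_of_injective (fun t => if h : (t : H) ∈ c.U then Sum.inl ⟨t, h⟩
        else Sum.inr ⟨t₀⁻¹ * t, (hcov t t.2).resolve_left h⟩) ?_
      intro s t hst
      apply Subtype.ext
      by_cases hs : (s : H) ∈ c.U <;> by_cases ht : (t : H) ∈ c.U <;>
        simp [hs, ht] at hst <;> simp_all
    rw [Nat.card_sum, hU] at this
    exact this
  · obtain ⟨k, hk⟩ := c.T.isPGroup'.exists_card_eq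
    have hlt : 4 < Nat.card ↥(c.T : Subgroup H) := by
      rcases (Subgroup.card_le_of_le c.U_le).lt_or_eq with h | h
      · rw [hU] at h; exact h
      · exact absurd (Subgroup.eq_of_le_of_card_ge c.U_le h.ge).symm hT
    rw [hk] at hlt ⊢
    have : 2 < k := by
      by_contra! hk2
      have := Nat.pow_le_pow_right (by norm_num : 0 < 2) hk2
      omega
    calc 8 = 2 ^ 3 := by norm_num
      _ ≤ 2 ^ k := Nat.pow_le_pow_right (by norm_num) this

theorem exists_injective_A8 :
    ∃ f : H →* ↥(alternatingGroup (Fin 8)), Function.Injective f := by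
  haveI : Fact (Nat.Prime 2) := ⟨Nat.prime_two⟩
  letI : Algebra (ZMod 2) F := ZMod.algebra F 2
  have hfr : Module.finrank (ZMod 2) (Fin 2 → F) = 4 := by
    haveI := Fintype.ofFinite F
    have h := Module.card_eq_pow_finrank (K := ZMod 2) (V := Fin 2 → F)
    rw [ZMod.card, ← Nat.card_eq_fintype_card, Nat.card_fun, Nat.card_fin, hF] at h
    exact (Nat.pow_right_injective le_rfl (show 2 ^ 4 = 2 ^ _ from h)).symm
  let b := Module.finBasisOfFinrankEq (ZMod 2) (Fin 2 → F) hfr
  let M : H →* Matrix (Fin 4) (Fin 4) (ZMod 2) :=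
    { toFun := fun h => LinearMap.toMatrixAlgEquiv b
        (((DistribMulAction.toAddMonoidEnd H (Fin 2 → F)) h).toZModLinearMap 2)
      map_one' := by
        rw [map_one (DistribMulAction.toAddMonoidEnd H (Fin 2 → F)),
          ← map_one (LinearMap.toMatrixAlgEquiv b)]
        rfl
      map_mul' := fun g h => by
        rw [map_mul (DistribMulAction.toAddMonoidEnd H (Fin 2 → F)),
          ← map_mul (LinearMap.toMatrixAlgEquiv b)]
        rfl }
  have hdet : ∀ h, (M h).det = 1 := by
    intro h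
    have hu : IsUnit ((M h).det) := by
      refine Matrix.isUnit_det_of_right_inverse (B := M h⁻¹) ?_
      rw [← map_mul, mul_inv_cancel, map_one]
    exact zmod_two_eq_one hu.ne_zero
  let S : H →* LinearGroup.PSL42.G :=
    { toFun := fun h => ⟨M h, hdet h⟩
      map_one' := Subtype.ext (map_one M)
      map_mul' := fun g h => Subtype.ext (map_mul M g h) }
  obtain ⟨e⟩ := LinearGroup.PSL42.equiv
  refine ⟨e.toMonoidHom.comp S, e.injective.comp ?_⟩
  rw [injective_iff_map_eq_one]
  intro h hh
  refine c.faith h fun w => ?_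
  have h1 : M h = 1 := congrArg Subtype.val hh
  have h2 : ((DistribMulAction.toAddMonoidEnd H (Fin 2 → F)) h).toZModLinearMap 2 = 1 :=
    (LinearMap.toMatrixAlgEquiv b).injective (by rw [map_one]; exact h1)
  exact LinearMap.congr_fun h2 w

theorem normal_or_alt_seven : c.L.Normal ∨ Nonempty (H ≃* ↥(alternatingGroup (Fin 7))) := by
  haveI : Fact (Nat.Prime 2) := ⟨Nat.prime_two⟩
  rcases c.key_or_card_T hF with hkey | hT
  · exact Or.inl (c.normal_of_key hkey)
  obtain ⟨f, hf⟩ := c.exists_injective_A8 hF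
  have hA8 : Nat.card ↥(alternatingGroup (Fin 8)) = 20160 := by
    rw [nat_card_alternatingGroup, Nat.card_fin]; rfl
  have hdvd : Nat.card H ∣ 20160 := hA8 ▸ Subgroup.card_dvd_of_injective f hf
  have hHT := (c.T : Subgroup H).card_mul_index
  rw [hT] at hHT
  have h2520 : Nat.card H ∣ 2520 := by
    rw [← hHT]
    have h1 : (c.T : Subgroup H).index ∣ 2520 := by
      rw [← hHT] at hdvd
      exact Nat.dvd_of_mul_dvd_mul_left (by norm_num : 0 < 8) hdvd
    have hodd : Nat.Coprime (2 ^ 3) (c.T : Subgroup H).index :=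
      ((Nat.Prime.coprime_iff_not_dvd Nat.prime_two).2 c.T.not_dvd_index).pow_left 3
    exact hodd.mul_dvd_of_dvd_of_dvd (by norm_num) h1
  by_cases hH : Nat.card H = 2520
  · right
    obtain ⟨e⟩ := alt_seven_of_index_eight f.range (by
      have h := f.range.card_mul_index
      rw [← Nat.card_congr (MonoidHom.ofInjective hf).toEquiv, hH, hA8] at h
      omega)
    exact ⟨(MonoidHom.ofInjective hf).trans e⟩
  left
  set M : Subgroup H := Subgroup.normalizer (c.L : Set H) with hM
  have hLM : c.L ≤ M := Subgroup.le_normalizer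
  have hM120 : 120 ∣ Nat.card ↥M := by
    have h1 : 60 ∣ Nat.card ↥M := c.card_L hF ▸ Subgroup.card_dvd_of_le hLM
    have h2 : 8 ∣ Nat.card ↥M := hT ▸ Subgroup.card_dvd_of_le c.T_le
    exact (Nat.lcm_dvd h2 h1 : Nat.lcm 8 60 ∣ _)
  have hMH : Nat.card ↥M * M.index = Nat.card H := M.card_mul_index
  have hMle : Nat.card ↥M ≤ 2520 :=
    (Nat.le_of_dvd (by norm_num) h2520).trans' (Subgroup.card_le_card_group M)
  obtain ⟨a, ha⟩ := hM120
  have hcases : M.index = 1 ∨ M.index = 3 ∨ (M.index = 7 ∧ Nat.card H = 840 ∧ a = 1) := by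
    rw [← hMH, ha, mul_assoc, show (2520 : ℕ) = 120 * 21 from rfl] at h2520
    have hk : a * M.index ∣ 21 := Nat.dvd_of_mul_dvd_mul_left (by norm_num : 0 < 120) h2520
    have hH' : Nat.card H = 120 * (a * M.index) := by rw [← hMH, ha, mul_assoc]
    have hk' : a * M.index ∈ Nat.divisors 21 := Nat.mem_divisors.2 ⟨hk, by norm_num⟩
    have hi : M.index ∈ Nat.divisors 21 :=
      Nat.mem_divisors.2 ⟨(dvd_mul_left _ _).trans hk, by norm_num⟩
    rw [show Nat.divisors 21 = {1, 3, 7, 21} by decide] at hk' hi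
    simp only [Finset.mem_insert, Finset.mem_singleton] at hk' hi
    rcases hi with h | h | h | h
    · exact Or.inl h
    · exact Or.inr (Or.inl h)
    · rw [h] at hk' hH'
      refine Or.inr (Or.inr ⟨h, ?_⟩)
      omega
    · rw [h] at hk' hH'
      omega
  haveI := c.isSimple_L hF
  have hconj : ∀ h : H, cj h c.L ≤ M → cj h c.L = c.L := by
    intro h hle
    haveI : IsSimpleGroup ↥(cj h c.L) :=
      (Subgroup.equivMapOfInjective c.L _ (MulAut.conj h).injective).symm.isSimpleGroup
    have hn : ((c.L ⊓ cj h c.L).subgroupOf (cj h c.L)).Normal := by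
      refine ⟨fun x hx y => ?_⟩
      rw [Subgroup.mem_subgroupOf] at hx ⊢
      refine ⟨?_, (y * x * y⁻¹).2⟩
      exact (Subgroup.mem_normalizer_iff.1 (hle y.2) _).1 hx.1
    rcases Subgroup.Normal.eq_bot_or_eq_top hn with hb | ht
    · exfalso
      rw [Subgroup.subgroupOf_eq_bot, disjoint_iff, inf_assoc, inf_idem] at hb
      have hinj : Function.Injective (fun x : ↥c.L × ↥(cj h c.L) =>
          (⟨(x.1 : H) * x.2, mul_mem (hLM x.1.2) (hle x.2.2)⟩ : ↥M)) :=
        fun x y hxy => Subgroup.mul_injective_of_disjoint (disjoint_iff.2 hb) (congrArg Subtype.val hxy)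
      have hc := Nat.card_le_card_of_injective _ hinj
      rw [Nat.card_prod, card_cj, c.card_L hF] at hc
      omega
    · rw [Subgroup.subgroupOf_eq_top] at ht
      exact Subgroup.eq_of_le_of_card_ge (ht.trans inf_le_left) (card_cj h c.L).ge
  set K := M.normalCore with hK
  have hKn : K.Normal := M.normalCore_normal
  have hfinal : c.L ≤ K → c.L.Normal := by
    intro hle
    refine ⟨fun x hx h => ?_⟩
    have hsub : cj h c.L ≤ M := fun y hy => M.normalCore_le (by
      have := hKn.conj_mem _ (hle (mem_cj.1 hy)) h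
      simpa [mul_assoc] using this)
    rw [← hconj h hsub, mem_cj]
    simpa [mul_assoc] using hx
  have hdich : c.L ≤ K ∨ K ⊓ c.L = ⊥ := by
    rcases Subgroup.Normal.eq_bot_or_eq_top (hKn.subgroupOf c.L) with h | h
    · rw [Subgroup.subgroupOf_eq_bot, disjoint_iff] at h
      exact Or.inr h
    · exact Or.inl (Subgroup.subgroupOf_eq_top.1 h)
  rcases hdich with hle | hdisj
  · exact hfinal hle
  rcases hcases with h1 | h3 | ⟨h7, h840, rfl⟩
  · exact Subgroup.normalizer_eq_top_iff.1 (Subgroup.index_eq_one.1 h1)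
  · exfalso
    let φ := (MulAction.toPermHom H (H ⧸ M)).comp c.L.subtype
    have hφ : Function.Injective φ := by
      rw [injective_iff_map_eq_one]
      intro x hx
      have hxK : (x : H) ∈ K := by
        rw [hK, Subgroup.normalCore_eq_ker]; exact hx
      exact Subtype.ext ((Subgroup.eq_bot_iff_forall _).1 hdisj _ ⟨hxK, x.2⟩)
    have hc := Nat.card_le_card_of_injective φ hφ
    rw [c.card_L hF, Nat.card_perm, ← Subgroup.index, h3] at hc
    simp [Nat.factorial] at hc
  · exfalso
    have hK1 : K = ⊥ := by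
      have hinj : Function.Injective (fun x : ↥K × ↥c.L =>
          (⟨(x.1 : H) * x.2, mul_mem (M.normalCore_le x.1.2) (hLM x.2.2)⟩ : ↥M)) :=
        fun x y hxy =>
          Subgroup.mul_injective_of_disjoint (disjoint_iff.2 hdisj) (congrArg Subtype.val hxy)
      have hc := Nat.card_le_card_of_injective _ hinj
      rw [Nat.card_prod, c.card_L hF, ha] at hc
      have hK2 : Nat.card ↥K ≤ 2 := by omega
      rw [Subgroup.eq_bot_iff_forall]
      intro z hz
      by_contra hz1
      have hK2' : Nat.card ↥K = 2 := by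
        rcases hK2.lt_or_eq with h | h
        · exact absurd ((Subgroup.eq_bot_iff_forall K).1
            (Subgroup.eq_bot_of_card_le K (by omega)) z hz) hz1
        · exact h
      have hall : ∀ y ∈ K, y = 1 ∨ y = z := by
        intro y hy
        by_contra! hne
        have h3 : Function.Injective ![(⟨1, one_mem K⟩ : ↥K), ⟨y, hy⟩, ⟨z, hz⟩] := by
          intro i j hij
          fin_cases i <;> fin_cases j <;>
            first
              | rfl
              | (exfalso
                 simp [Subtype.ext_iff, hne.1, hne.2, hz1, Ne.symm hne.1, Ne.symm hne.2,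
                   Ne.symm hz1] at hij)
        have := Nat.card_le_card_of_injective _ h3
        rw [Nat.card_fin, hK2'] at this
        omega
      have hcen : ∀ g : H, g * z = z * g := by
        intro g
        rcases hall _ (hKn.conj_mem z hz g) with h | h
        · exact absurd (conj_eq_one_iff.1 h) hz1
        · exact mul_inv_eq_iff_eq_mul.1 h
      have hsc := eq_smul_of_commute (DistribMulAction.toAddMonoidHom (Fin 2 → F) z) fun A w => by
        show z • _ = (A : Matrix (Fin 2) (Fin 2) F).mulVec (z • w)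
        rw [← c.emb_smul, ← mul_smul, ← hcen, mul_smul, c.emb_smul]
      have hz2 : z ^ 2 = 1 := by
        have h : (⟨z, hz⟩ : ↥K) ^ Nat.card ↥K = 1 := pow_card_eq_one'
        rw [hK2'] at h
        exact congrArg Subtype.val h
      set d := (z • (![1, 0] : Fin 2 → F)) 0 with hd
      have hd1 : d = 1 := by
        have h := congrArg (fun g : H => g • (![1, 0] : Fin 2 → F)) hz2
        have hsc' : ∀ w : Fin 2 → F, z • w = d • w := hsc
        simp only [pow_two, mul_smul, one_smul, hsc'] at h
        refine frobenius_inj F 2 ?_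
        show d ^ 2 = 1 ^ 2
        rw [one_pow, pow_two]
        simpa using congrFun h 0
      exact hz1 (c.faith z fun w => by
        rw [show z • w = d • w from hsc w, hd1, one_smul])
    let φ := MulAction.toPermHom H (H ⧸ M)
    have hφ : Function.Injective φ := by
      rw [← MonoidHom.ker_eq_bot_iff, ← Subgroup.normalCore_eq_ker]; exact hK1
    exact card_ne_840 (Ω := H ⧸ M) h7 φ.range
      (by rw [← Nat.card_congr (MonoidHom.ofInjective hφ).toEquiv, h840])

end

end Ctx

end Cfsg.Agent.FG78.SL2Nat
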