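import Cfsg.Agent.FG78.SL2Nat.Basic

/-!
`Key` holds unless the field has four elements.
-/

set_option autoImplicit false
set_option linter.unusedSectionVars false

open scoped MatrixGroups

namespace Cfsg.Agent.FG78.SL2Nat

open Cfsg.Agent.PLocalB (upper lower)
open Cfsg.Agent.FFSL2

variable {F : Type*} [Field F] [Finite F] {p : ℕ} [hp : Fact p.Prime] [CharP F p]

/-- A finite field has at most one involutive automorphism. -/
theorem involution_unique (p : ℕ) [Fact p.Prime] [CharP F p] {τ τ' : F ≃+* F} (h : ∀ x, τ (τ x) = x) (h' : ∀ x, τ' (τ' x) = x)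
    (hne : ∃ x, τ x ≠ x) (hne' : ∃ x, τ' x ≠ x) : τ = τ' := by
  letI : Algebra (ZMod p) F := ZMod.algebra F p
  let lift : (F ≃+* F) → (F ≃ₐ[ZMod p] F) := fun e =>
    AlgEquiv.ofRingEquiv (f := e) fun r => RingHom.congr_fun
      (Subsingleton.elim ((e : F →+* F).comp (algebraMap (ZMod p) F)) (algebraMap (ZMod p) F)) r
  have ho : ∀ e : F ≃+* F, (∀ x, e (e x) = x) → (∃ x, e x ≠ x) → orderOf (lift e) = 2 := by
    intro e he hn
    refine orderOf_eq_prime (AlgEquiv.ext fun x => ?_) fun h1 => ?_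
    · rw [pow_two, AlgEquiv.mul_apply]; exact he x
    · obtain ⟨x, hx⟩ := hn
      exact hx (congrArg (fun a : F ≃ₐ[ZMod p] F => a x) h1)
  have huniq : ∀ a b : F ≃ₐ[ZMod p] F, orderOf a = 2 → orderOf b = 2 → a = b := by
    classical
    haveI : Fintype (F ≃ₐ[ZMod p] F) := Fintype.ofFinite _
    intro a b ha hb
    have h1 := IsCyclic.card_orderOf_eq_totient (α := F ≃ₐ[ZMod p] F) (d := 2)
      (by rw [← ha]; exact orderOf_dvd_card)
    rw [Nat.totient_two, Finset.card_eq_one] at h1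
    obtain ⟨z, hz⟩ := h1
    have ha' : a = z := Finset.mem_singleton.1 (hz ▸ by simp [ha])
    have hb' : b = z := Finset.mem_singleton.1 (hz ▸ by simp [hb])
    rw [ha', hb']
  have := huniq _ _ (ho τ h hne) (ho τ' h' hne')
  exact RingEquiv.ext fun x => congrArg (fun a : F ≃ₐ[ZMod p] F => a x) this

namespace Ctx

variable {H : Type*} [Group H] [Finite H] [DistribMulAction H (Fin 2 → F)] (c : Ctx F p H)

theorem smul_pair (r : F) : (r • ![1, 0] : Fin 2 → F) = ![r, 0] := by simp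

/-- The stabiliser of `Z` acts semilinearly on it. -/
theorem GZ_semilinear {h : H} (hh : h ∈ c.GZ) :
    ∃ (τ : F ≃+* F) (m : F), m ≠ 0 ∧ ∀ x, h • (![x, 0] : Fin 2 → F) = ![m * τ x, 0] := by
  have hφ : ∀ d : F, ∃ e : F, h * c.u d = c.u e * h := by
    intro d
    have h1 : h * c.u d * h⁻¹ ∈ c.U := by
      rw [← c.cj_U_of_mem_GZ hh, mem_cj]
      simpa [mul_assoc] using c.u_mem d
    obtain ⟨e, he⟩ := c.exists_u h1
    exact ⟨e, by rw [he, inv_mul_cancel_right]⟩
  choose φ hφ using hφ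
  set f : F → F := fun x => (h • (![x, 0] : Fin 2 → F)) 0 with hf
  set g : F → F := fun y => (h • (![0, y] : Fin 2 → F)) 1 with hg
  have hsh : ∀ x, h • (![x, 0] : Fin 2 → F) = ![f x, 0] := fun x =>
    c.eq_of_mem_Z (c.smul_mem_Z hh (c.e0_mem x))
  have hprod : ∀ d y, f (d * y) = φ d * g y := by
    intro d y
    have e1 : (![d * y, 0] : Fin 2 → F) = c.u d • ![0, y] - ![0, y] := by
      rw [c.u_smul]; funext i; fin_cases i <;> simp
    show (h • (![d * y, 0] : Fin 2 → F)) 0 = _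
    rw [e1, smul_sub, ← mul_smul, hφ, mul_smul, c.u_smul]
    simp [hg]
  have hadd : ∀ x y, f (x + y) = f x + f y := fun x y => by
    show (h • (![x + y, 0] : Fin 2 → F)) 0 = _
    rw [show (![x + y, 0] : Fin 2 → F) = ![x, 0] + ![y, 0] by simp, smul_add]; rfl
  have hm : f 1 ≠ 0 := by
    intro h0
    have h1 : h • (![1, 0] : Fin 2 → F) = h • (0 : Fin 2 → F) := by
      rw [hsh, h0, smul_zero]; simp
    simpa using congrFun (smul_left_cancel h h1) 0
  have hmul : ∀ x y, f (x * y) * f 1 = f x * f y := by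
    intro x y
    have a1 := hprod x 1
    have a2 := hprod 1 y
    have a3 := hprod 1 1
    rw [mul_one] at a1 a3
    rw [one_mul] at a2
    rw [hprod, a1, a2, a3]; ring
  let σ : F →+* F :=
    { toFun := fun x => f x / f 1
      map_one' := div_self hm
      map_mul' := fun x y => by rw [div_mul_div_comm, ← hmul]; field_simp
      map_zero' := by
        have h0 := hadd 0 0
        rw [add_zero, left_eq_add] at h0
        rw [h0, zero_div]
      map_add' := fun x y => by rw [hadd, add_div] }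
  refine ⟨RingEquiv.ofBijective σ ⟨σ.injective, Finite.injective_iff_surjective.1 σ.injective⟩,
    f 1, hm, fun x => ?_⟩
  rw [hsh]
  show (![f x, 0] : Fin 2 → F) = ![f 1 * (f x / f 1), 0]
  rw [mul_div_cancel₀ _ hm]

theorem sq_smul_data {h : H} {τ : F ≃+* F} {m : F}
    (hτ : ∀ x, h • (![x, 0] : Fin 2 → F) = ![m * τ x, 0]) (h2 : h ^ 2 = 1) :
    m * τ m = 1 ∧ ∀ x, τ (τ x) = x := by
  have e : ∀ x, m * τ (m * τ x) = x := fun x => by
    have h1 := congrArg (fun g : H => g • (![x, 0] : Fin 2 → F)) h2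
    simp only [pow_two, mul_smul, one_smul, hτ] at h1
    simpa using congrFun h1 0
  have e1 : m * τ m = 1 := by simpa using e 1
  refine ⟨e1, fun x => ?_⟩
  have := e x
  rwa [map_mul, ← mul_assoc, e1, one_mul] at this

/-- The semilinear map of an element of `T` whose field part is trivial is in `U`. -/
theorem mem_U_of_linear {a : H} (haT : a ∈ (c.T : Subgroup H)) {k₀ : ℕ} (hap : a ^ p ^ k₀ = 1)
    (hlin : ∀ (d : F) (w : Fin 2 → F), a • (d • w) = d • (a • w)) : a ∈ c.U := by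
  set α := (a • (![1, 0] : Fin 2 → F)) 0 with hα
  set β := (a • (![0, 1] : Fin 2 → F)) 0 with hβ
  set δ := (a • (![0, 1] : Fin 2 → F)) 1 with hδ
  have hp0 := hp.out
  have ha0 : a • (![1, 0] : Fin 2 → F) = ![α, 0] :=
    c.eq_of_mem_Z (c.smul_mem_Z (c.T_le_GZ haT) (c.e0_mem 1))
  have ha1 : a • (![0, 1] : Fin 2 → F) = ![β, δ] := by funext i; fin_cases i <;> simp [hβ, hδ]
  have haw : ∀ w : Fin 2 → F, a • w = ![w 0 * α + w 1 * β, w 1 * δ] := by
    intro w
    have e : w = w 0 • ![1, 0] + w 1 • ![0, 1] := by funext i; fin_cases i <;> simp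
    conv_lhs => rw [e, smul_add, hlin, hlin, ha0, ha1]
    funext i; fin_cases i <;> simp
  have hpow0 : ∀ k : ℕ, a ^ k • (![1, 0] : Fin 2 → F) = ![α ^ k, 0] := by
    intro k
    induction k with
    | zero => simp
    | succ k ih => rw [pow_succ', mul_smul, ih, haw]; simp [pow_succ]
  have hpow1 : ∀ k : ℕ, (a ^ k • (![0, 1] : Fin 2 → F)) 1 = δ ^ k := by
    intro k
    induction k with
    | zero => simp
    | succ k ih => rw [pow_succ', mul_smul, haw]; simp [ih, pow_succ]
  have hfrob : Function.Injective (fun x : F => x ^ p ^ k₀) := iterateFrobenius_inj F p k₀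
  have hα1 : α = 1 := hfrob <| by
    have h := hpow0 (p ^ k₀)
    rw [hap, one_smul] at h
    show α ^ p ^ k₀ = 1 ^ p ^ k₀
    rw [one_pow]
    simpa using (congrFun h 0).symm
  have hδ1 : δ = 1 := hfrob <| by
    have h := hpow1 (p ^ k₀)
    rw [hap, one_smul] at h
    show δ ^ p ^ k₀ = 1 ^ p ^ k₀
    rw [one_pow]
    simpa using h.symm
  have : a = c.u β := (inv_mul_eq_one.1 (c.faith _ fun w => by
    rw [mul_smul, inv_smul_eq_iff, c.u_smul, haw, hα1, hδ1]
    funext i; fin_cases i <;> simp [mul_comm])).symm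
  exact this ▸ c.u_mem β

theorem key_of_card_ne_four (h4 : Nat.card F ≠ 4) : c.Key := by
  refine c.key_of_T fun g a ha ha1 haT => ?_
  have hap : a ^ p = 1 := by
    have h := c.pow_p_U (mem_cj.1 ha)
    have e : a = MulAut.conj g (g⁻¹ * a * g) := by simp [mul_assoc]
    rw [e, ← map_pow, h, map_one]
  by_cases hgZ : g ∈ c.GZ
  · exact c.cj_U_of_mem_GZ hgZ
  exfalso
  obtain ⟨σ, hσ⟩ := c.semilinear (c.T_le haT)
  by_cases hid : ∀ d, σ d = d
  · -- the linear case
    have haU : a ∈ c.U := c.mem_U_of_linear (k₀ := 1) haT (by rw [pow_one]; exact hap) fun d w => by rw [hσ, hid]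
    refine hgZ (c.mem_GZ fun z hz => ?_)
    have h1 : g • z ∈ (fix (cj g c.U) : AddSubgroup (Fin 2 → F)) := by
      rw [mem_fix_cj, inv_smul_smul]; exact hz
    exact c.mem_Z_of_smul_eq haU ha1 (h1 a ha)
  push Not at hid
  obtain ⟨d₀, hd₀⟩ := hid
  set α := (a • (![1, 0] : Fin 2 → F)) 0 with hα
  set β := (a • (![0, 1] : Fin 2 → F)) 0 with hβ
  set δ := (a • (![0, 1] : Fin 2 → F)) 1 with hδ
  have ha0 : a • (![1, 0] : Fin 2 → F) = ![α, 0] :=
    c.eq_of_mem_Z (c.smul_mem_Z (c.T_le_GZ haT) (c.e0_mem 1))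
  have ha0' : ∀ x, a • (![x, 0] : Fin 2 → F) = ![σ x * α, 0] := fun x => by
    rw [← smul_pair, hσ, ha0]; simp
  have ha1' : a • (![0, 1] : Fin 2 → F) = ![β, δ] := by funext i; fin_cases i <;> simp [hβ, hδ]
  have haw : ∀ w : Fin 2 → F, a • w = ![σ (w 0) * α + σ (w 1) * β, σ (w 1) * δ] := by
    intro w
    have e : w = w 0 • ![1, 0] + w 1 • ![0, 1] := by funext i; fin_cases i <;> simp
    conv_lhs => rw [e, smul_add, hσ, hσ, ha0, ha1']
    funext i; fin_cases i <;> simp
  have hquad : ∀ x, σ (σ x) * σ α * α - σ x * α = σ x * α - x := by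
    intro x
    have h := c.quad_cj ha (![x, 0] : Fin 2 → F) a ha
    rw [smul_sub, ha0', ha0', map_mul] at h
    simpa using congrFun h 0
  have hσσ : ∀ x, σ (σ x) = x := by
    intro x
    have q1 := hquad 1
    have qx := hquad x
    have qd := hquad d₀
    have qxd := hquad (x * d₀)
    simp only [map_mul, map_one, one_mul] at q1 qxd
    have hz : (σ d₀ - d₀) * (σ (σ x) - x) = 0 := by
      linear_combination qxd - σ (σ x) * qd - σ d₀ * qx + σ d₀ * σ (σ x) * q1
    exact sub_eq_zero.1 ((mul_eq_zero.1 hz).resolve_left (sub_ne_zero.2 hd₀))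
  have hp2 : p = 2 := by
    by_contra hp2
    have h := pow_smul_of_semilinear (a := a) (σ := σ) hσ p d₀ ![1, 0]
    rw [hap, one_smul, one_smul, Function.Involutive.iterate_odd hσσ
      (hp.out.odd_of_ne_two hp2)] at h
    exact hd₀ (by simpa using (congrFun h 0).symm)
  subst hp2
  haveI : CharP F 2 := inferInstance
  have ha2 : a * a = 1 := by rw [← pow_two]; exact hap
  have hα2 : σ α * α = 1 := by
    have h := congrArg (fun g : H => g • (![1, 0] : Fin 2 → F)) ha2
    simp only [mul_smul, one_smul, ha0, ha0'] at h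
    simpa using congrFun h 0
  have hδ2 : σ δ * δ = 1 := by
    have h := congrArg (fun g : H => g • (![0, 1] : Fin 2 → F)) ha2
    simp only [mul_smul, one_smul] at h
    rw [ha1', haw] at h
    simpa using congrFun h 1
  set κ := α * σ δ with hκ
  have hκ2 : κ * σ κ = 1 := by
    rw [hκ, map_mul, hσσ]
    linear_combination (σ δ * δ) * hα2 + hδ2
  let ψ : F →+ F := AddMonoidHom.mk' (fun x => κ * σ x + x) fun x y => by
    rw [map_add]; ring
  have hker : ψ.range ≤ ψ.ker := by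
    rintro _ ⟨x, rfl⟩
    show κ * σ (κ * σ x + x) + (κ * σ x + x) = 0
    rw [map_add, map_mul, hσσ, mul_add, ← mul_assoc, hκ2, one_mul]
    linear_combination CharTwo.add_self_eq_zero x + CharTwo.add_self_eq_zero (κ * σ x)
  have hcard : Nat.card F ≤ Nat.card ψ.ker * Nat.card ψ.ker := by
    rw [AddSubgroup.card_eq_card_quotient_mul_card_addSubgroup ψ.ker,
      Nat.card_congr (QuotientAddGroup.quotientKerEquivRange ψ).toEquiv]
    exact Nat.mul_le_mul_right _ (AddSubgroup.card_le_of_le hker)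
  have hq : 3 ≤ Nat.card F := by
    by_contra hlt
    refine hd₀ ?_
    have h01 : d₀ ≠ 0 ∧ d₀ ≠ 1 :=
      ⟨fun h => hd₀ (by rw [h, map_zero]), fun h => hd₀ (by rw [h, map_one])⟩
    exfalso
    have : Nat.card (Fin 3) ≤ Nat.card F :=
      Nat.card_le_card_of_injective ![0, 1, d₀] (by
        intro i j hij
        fin_cases i <;> fin_cases j <;>
          first
            | rfl
            | (exfalso; simp [h01.1, h01.2, Ne.symm h01.1, Ne.symm h01.2] at hij))
    simp at this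
    omega
  have h2q : 2 ∣ Nat.card F := by
    haveI := Fintype.ofFinite F
    obtain ⟨n, -, hn⟩ := FiniteField.card F 2
    rw [Nat.card_eq_fintype_card, hn]
    exact dvd_pow_self 2 n.pos.ne'
  have hk3 : 3 ≤ Nat.card ψ.ker := by
    by_contra hlt
    have : Nat.card ψ.ker * Nat.card ψ.ker ≤ 4 :=
      le_trans (Nat.mul_le_mul (by omega : Nat.card ψ.ker ≤ 2) (by omega : Nat.card ψ.ker ≤ 2)) le_rfl
    omega
  obtain ⟨c₁, c₂, hc₁, hc₂, hne⟩ : ∃ c₁ c₂ : ψ.ker, c₁ ≠ 0 ∧ c₂ ≠ 0 ∧ c₁ ≠ c₂ := by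
    classical
    haveI := Fintype.ofFinite ψ.ker
    have hc : 1 < (Finset.univ.erase (0 : ψ.ker)).card := by
      rw [Finset.card_erase_of_mem (Finset.mem_univ _), Finset.card_univ, ← Nat.card_eq_fintype_card]
      omega
    obtain ⟨x, hx, y, hy, hxy⟩ := Finset.one_lt_card.1 hc
    exact ⟨x, y, Finset.ne_of_mem_erase hx, Finset.ne_of_mem_erase hy, hxy⟩
  -- involutions centralising `a`, seen on `Z`
  have hcomm : ∀ x : F, x ∈ ψ.ker → x ≠ 0 → ∃ (τ : F ≃+* F) (m : F),
      (∀ z, (g⁻¹ * c.u x * g) • (![z, 0] : Fin 2 → F) = ![m * τ z, 0]) ∧ m * τ m = 1 ∧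
      (∀ z, τ (τ z) = z) ∧ ∃ z, τ z ≠ z := by
    intro x hx hx0
    have hx' : κ * σ x = x := CharTwo.add_eq_zero.1 hx
    have hrel : α * σ x = x * δ := by
      rw [hκ] at hx'
      linear_combination δ * hx' - (α * σ x) * hδ2
    have hac : a * c.u x = c.u x * a := by
      refine (inv_mul_eq_one.1 (c.faith _ fun w => ?_)).symm
      rw [mul_smul (c.u x * a)⁻¹, inv_smul_eq_iff, mul_smul, mul_smul, c.u_smul, haw, haw,
        c.u_smul]
      simp only [Matrix.cons_val_zero, Matrix.cons_val_one, map_add, map_mul]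
      funext i
      fin_cases i
      · simp; linear_combination σ (w 1) * hrel
      · simp
    have hmem : g⁻¹ * c.u x * g ∈ c.GZ := by
      refine c.mem_GZ fun z hz => ?_
      have h1 : g • z ∈ (fix (cj g c.U) : AddSubgroup (Fin 2 → F)) := by
        rw [mem_fix_cj, inv_smul_smul]; exact hz
      have h2 : c.u x • (g • z) ∈ (fix (cj g c.U) : AddSubgroup (Fin 2 → F)) := by
        refine c.smul_eq_mem_fix ha ha1 ?_
        rw [← mul_smul, hac, mul_smul, h1 a ha]
      rw [mem_fix_cj] at h2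
      rwa [mul_smul, mul_smul]
    obtain ⟨τ, m, -, hτ⟩ := c.GZ_semilinear hmem
    have hsq : (g⁻¹ * c.u x * g) ^ 2 = 1 := by
      have h := c.pow_p_U (c.u_mem x)
      calc (g⁻¹ * c.u x * g) ^ 2 = g⁻¹ * c.u x ^ 2 * g := by simp [pow_two, mul_assoc]
        _ = 1 := by rw [h]; simp
    obtain ⟨hm, hττ⟩ := sq_smul_data hτ hsq
    refine ⟨τ, m, hτ, hm, hττ, ?_⟩
    by_contra! hall
    rw [hall] at hm
    have hm1 : m = 1 := (frobenius_inj F 2) (by
      show m ^ 2 = 1 ^ 2
      rw [pow_two, one_pow, hm])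
    refine hgZ (c.mem_GZ fun z hz => ?_)
    have h1 := hτ (z 0)
    rw [hm1, hall, one_mul, ← c.eq_of_mem_Z hz, mul_smul, mul_smul, inv_smul_eq_iff] at h1
    refine c.mem_Z_of_smul_eq (c.u_mem x) (fun e => hx0 ?_) h1
    have := congrArg (fun g : H => g • (![0, 1] : Fin 2 → F)) e
    rw [one_smul, c.u_smul] at this
    simpa using congrFun this 0
  obtain ⟨τ₁, m₁, hτ₁, -, h11, hn1⟩ := hcomm c₁ c₁.2 fun h => hc₁ (Subtype.ext h)
  obtain ⟨τ₂, m₂, hτ₂, -, h22, hn2⟩ := hcomm c₂ c₂.2 fun h => hc₂ (Subtype.ext h)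
  obtain ⟨τ₃, m₃, hτ₃, -, -, hn3⟩ := hcomm ((c₁ : F) + c₂) (add_mem c₁.2 c₂.2) fun h =>
    hne (Subtype.ext (CharTwo.add_eq_zero.1 h))
  obtain ⟨z, hz⟩ := hn3
  have heq : τ₁ = τ₂ := involution_unique 2 h11 h22 hn1 hn2
  have hcomp : ∀ y, m₃ * τ₃ y = m₁ * τ₁ m₂ * y := by
    intro y
    have e : g⁻¹ * c.u ((c₁ : F) + c₂) * g = (g⁻¹ * c.u c₁ * g) * (g⁻¹ * c.u c₂ * g) := by
      rw [← c.u_add]; group
    have h := hτ₃ y
    rw [e, mul_smul, hτ₂, hτ₁] at h
    have h' := congrFun h 0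
    simp only [Matrix.cons_val_zero, map_mul, ← heq, h11] at h'
    linear_combination -h'
  have h1 := hcomp 1
  rw [map_one, mul_one, mul_one] at h1
  have h := hcomp z
  rw [← h1] at h
  have hm3 : m₃ ≠ 0 := by
    intro h0
    have h' := hτ₃ 1
    rw [h0, zero_mul, smul_eq_iff_eq_inv_smul] at h'
    have : (![(0 : F), 0] : Fin 2 → F) = 0 := by simp
    rw [this, smul_zero] at h'
    simpa using congrFun h' 0
  exact hz (mul_left_cancel₀ hm3 h)

end Ctx

end Cfsg.Agent.FG78.SL2Nat
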